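import Groth.Agent.H78.DeltaZ
import Groth.Agent.H46.DimData

/-!
# The distance function and morphisms of finite type
-/

universe u

open AlgebraicGeometry TopologicalSpace Algz
open Groth.Agent.Lib Groth.Agent.Lib.Cyc Groth.Agent.H46

namespace Groth.Agent.Lib.DeltaFT

variable {X Y : Scheme.{u}}

/-- Codimension of points as the dimension of the local ring of the closure. -/
theorem codimPt_eq_qd [IsLocallyNoetherian X] {w v : X} (h : w ⤳ v) :
    codimPt w v h = (DimData.qd h : ℕ∞) := by
  classical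
  let g : Set.Ici (Specialization.toEquiv v) → (PrimeSpectrum (X.presheaf.stalk v))ᵒᵈ := fun a =>
    OrderDual.toDual (DimFun.genPrime v (Specialization.ofEquiv a.1) a.2)
  have hrel : ∀ a b, g a ≤ g b ↔ a ≤ b := fun a b =>
    DimFun.genPrime_le_iff v _ _ _ _
  have hsurj : Function.Surjective g := fun p =>
    ⟨⟨Specialization.toEquiv (X.fromSpecStalk v (OrderDual.ofDual p)),
      DimFun.fromSpecStalk_specializes_self v _⟩, congrArg OrderDual.toDual
        ((X.fromSpecStalk v).isEmbedding.injective (DimFun.fromSpecStalk_genPrime v _ _))⟩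
  let e : Set.Ici (Specialization.toEquiv v) ≃o (PrimeSpectrum (X.presheaf.stalk v))ᵒᵈ :=
    { Equiv.ofBijective g ⟨fun a b hab => Subtype.ext (by
        have := congrArg (fun p => X.fromSpecStalk v (OrderDual.ofDual p)) hab
        exact ((DimFun.fromSpecStalk_genPrime v _ a.2).symm.trans this).trans
          (DimFun.fromSpecStalk_genPrime v _ b.2)), hsurj⟩ with
      map_rel_iff' := fun {a b} => hrel a b }
  have h1 := (Order.height_orderIso e
    ⟨Specialization.toEquiv w, Specialization.toEquiv_le_toEquiv.mpr h⟩).symm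
  refine h1.trans ?_
  show Order.coheight (DimFun.genPrime v w h) = _
  have h2 := Order.coheight_eq_krullDim_Ici (x := DimFun.genPrime v w h)
  have h3 : ringKrullDim (Cyc.LocQuot v w h) = Order.krullDim (Set.Ici (DimFun.genPrime v w h)) := by
    rw [ringKrullDim_quotient]
    exact Order.krullDim_eq_of_orderIso (OrderIso.setCongr _ _ (by
      ext q
      exact Iff.rfl))
  rw [← h3, DimData.ringKrullDim_locQuot h] at h2
  exact_mod_cast h2

theorem trd_le (f : X ⟶ Y) [LocallyOfFiniteType f] (e : ℕ) (x : X)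
    (h : topologicalKrullDim ↥(f.fiber (f x)) ≤ (e : WithBot ℕ∞)) : FibreTrdeg.trd f x ≤ e := by
  refine (DimData.trd_le_fe f (specializes_refl x)).trans ?_
  have h1 : FlatMor.fibreDimAt f x ≤ (e : WithBot ℕ∞) :=
    (iInf_le _ ⟨⊤, trivial⟩).trans
      ((Topology.IsInducing.subtypeVal.topologicalKrullDim_le).trans h)
  unfold DimData.fe
  generalize FlatMor.fibreDimAt f x = a at h1
  induction a with
  | bot => simp
  | coe c =>
    have hc : c ≤ (e : ℕ∞) := WithBot.coe_le_coe.mp h1
    simpa using ENat.toNat_le_of_le_coe hc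

theorem toNat_sub_le {a b a' b' t tv tw e : ℕ} (he : tv ≤ e) (ht : t ≤ e) (hw : tw = t)
    (hab : (a : ℤ) - b + tw = (a' : ℤ) - b' + tv) : a - b + t ≤ (a' - b') + e := by omega

/-- Pushing a system forward along a morphism of finite type over a universally catenary base. -/
theorem deltaZ_le_preimage [IsLocallyNoetherian X] [IsLocallyNoetherian Y] (f : X ⟶ Y)
    [LocallyOfFiniteType f] (hY : ∀ y : Y, CAlg.IsUniversallyCatenary (Y.presheaf.stalk y))
    (Z : Set Y) (e : ℕ) (hfib : ∀ y : Y, topologicalKrullDim ↥(f.fiber y) ≤ (e : WithBot ℕ∞))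
    (x : X) :
    deltaZ Z (f x) + (FibreTrdeg.trd f x : ℕ∞) ≤ deltaZ (f ⁻¹' Z) x + e := by
  classical
  rw [show deltaZ (f ⁻¹' Z) x = ⨅ (k : ℕ) (S : DSystem (f ⁻¹' Z) x k), S.delta from rfl,
    ENat.iInf_add]
  refine le_iInf fun k => ?_
  rw [ENat.iInf_add]
  refine le_iInf fun S => ?_
  let S' : DSystem Z (f x) k :=
    { v := fun i => f (S.v i)
      w := fun i => f (S.w i)
      spec := fun i => (S.spec i).map f.continuous
      spec_succ := fun i => (S.spec_succ i).map f.continuous
      start_mem := S.start_mem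
      last_eq := congrArg _ S.last_eq }
  refine (add_le_add (H78.DeltaZ.deltaZ_le S') le_rfl).trans ?_
  rw [H78.DeltaZ.delta_eq, H78.DeltaZ.delta_eq, add_assoc, add_assoc]
  refine add_le_add le_rfl ?_
  obtain ⟨i, -, hi⟩ := Finset.exists_mem_eq_sup (Finset.univ : Finset (Fin (k + 1)))
    Finset.univ_nonempty (H78.DeltaZ.term S')
  rw [hi]
  refine le_trans ?_ (add_le_add (H78.DeltaZ.term_le S i) le_rfl)
  let qc : Fin (k + 1) → ℕ := fun j => DimData.qd (S.spec j)
  let qb : Fin k → ℕ := fun j => DimData.qd (S.spec_succ j)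
  let qc' : Fin (k + 1) → ℕ := fun j => DimData.qd ((S.spec j).map f.continuous)
  let qb' : Fin k → ℕ := fun j => DimData.qd ((S.spec_succ j).map f.continuous)
  have ec : ∀ j, S.c j = (qc j : ℕ∞) := fun j => codimPt_eq_qd _
  have eb : ∀ j, S.b j = (qb j : ℕ∞) := fun j => codimPt_eq_qd _
  have ec' : ∀ j, S'.c j = (qc' j : ℕ∞) := fun j => codimPt_eq_qd _
  have eb' : ∀ j, S'.b j = (qb' j : ℕ∞) := fun j => codimPt_eq_qd _
  let tv : Fin (k + 1) → ℕ := fun j => FibreTrdeg.trd f (S.v j)
  let tw : Fin (k + 1) → ℕ := fun j => FibreTrdeg.trd f (S.w j)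
  have hc : ∀ j, qc j + tv j = qc' j + tw j := fun j => DimData.qd_eq f (S.spec j) (hY _)
  have hb : ∀ j : Fin k, qb j + tv j.succ = qb' j + tw j.castSucc :=
    fun j => DimData.qd_eq f (S.spec_succ j) (hY _)
  unfold H78.DeltaZ.term
  simp only [ec, eb, ec', eb', ← Nat.cast_zero (R := ℕ∞), ← Nat.cast_ite, ← Nat.cast_sum,
    ← ENat.natCast_sub, ← Nat.cast_add, Nat.cast_le]
  have hlast : tw (Fin.last k) = FibreTrdeg.trd f x := congrArg (fun z => FibreTrdeg.trd f z) S.last_eq
  refine toNat_sub_le (tv := tv i) (trd_le f e _ (hfib _)) (trd_le f e x (hfib _)) hlast ?_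
  push_cast
  -- telescoping
  have e1 : ∀ j : Fin (k + 1), (if i ≤ j then (qc' j : ℤ) else 0) =
      (if i ≤ j then (qc j : ℤ) else 0) + (if i ≤ j then (tv j : ℤ) else 0) -
        (if i ≤ j then (tw j : ℤ) else 0) := fun j => by
    have := hc j
    split_ifs <;> omega
  have e2 : ∀ j : Fin k, (if i.val ≤ j.val then (qb' j : ℤ) else 0) =
      (if i.val ≤ j.val then (qb j : ℤ) else 0) + (if i.val ≤ j.val then (tv j.succ : ℤ) else 0) -
        (if i.val ≤ j.val then (tw j.castSucc : ℤ) else 0) := fun j => by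
    have := hb j
    split_ifs <;> omega
  simp only [e1, e2, Finset.sum_add_distrib, Finset.sum_sub_distrib]
  have hw : (∑ j : Fin (k + 1), if i ≤ j then (tw j : ℤ) else 0) =
      (∑ j : Fin k, if i.val ≤ j.val then (tw j.castSucc : ℤ) else 0) + tw (Fin.last k) := by
    rw [Fin.sum_univ_castSucc, if_pos (Fin.le_last i)]
    congr 1
  have hv : (∑ j : Fin (k + 1), if i ≤ j then (tv j : ℤ) else 0) =
      tv i + ∑ j : Fin k, if i.val ≤ j.val then (tv j.succ : ℤ) else 0 := by
    have h1 : ∀ j : Fin (k + 1), (if i ≤ j then (tv j : ℤ) else 0) =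
        (if j = i then (tv j : ℤ) else 0) + (if i.val < j.val then (tv j : ℤ) else 0) := fun j => by
      by_cases h : j = i
      · subst h; simp
      · have hne : j.val ≠ i.val := fun e => h (Fin.ext e)
        simp only [h, if_false, zero_add, Fin.le_def]
        split_ifs <;> omega
    rw [Finset.sum_congr rfl fun j _ => h1 j, Finset.sum_add_distrib, Finset.sum_ite_eq' Finset.univ i]
    congr 1
    · simp
    · rw [Fin.sum_univ_succ, if_neg (by simp), zero_add]
      exact Finset.sum_congr rfl fun j _ => by simp only [Fin.val_succ, Nat.lt_succ_iff]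
  rw [hw, hv]
  ring

end Groth.Agent.Lib.DeltaFT
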